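import Cfsg.Agent.Lib.HSUniq.Check

/-!
A certificate for one value of the relation from the third local subgroup.
-/

set_option autoImplicit false
set_option maxRecDepth 20000
set_option Elab.async false

namespace Cfsg.Agent.HSUniq.Bad

/-- facts -/
def f0 : List Fact :=
  [⟨false, 96, 0, 0, 0, 96⟩,
    ⟨false, 2, 0, 0, 0, 2⟩,
    ⟨false, 21, 0, 0, 0, 21⟩,
    ⟨false, 1536, 0, 0, 0, 1536⟩,
    ⟨true, 0, 0, 0, 1, 0⟩,
    ⟨false, 1296, 1, 0, 1, 96⟩,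
    ⟨false, 1, 1, 0, 1, 9⟩,
    ⟨false, 974, 1, 0, 1, 193⟩,
    ⟨true, 0, 1, 12, 1, 18⟩,
    ⟨true, 1536, 1, 0, 2, 0⟩,
    ⟨false, 14, 2, 0, 2, 9⟩,
    ⟨false, 240, 2, 0, 2, 241⟩,
    ⟨false, 561, 2, 0, 2, 360⟩,
    ⟨true, 2562, 2, 2513, 2, 18⟩,
    ⟨false, 1410, 2, 1524, 2, 361⟩,
    ⟨false, 0, 2, 0, 2, 9⟩]

/-- the certificate -/
def P : Cert where
  nodes := [(0, 0), (1, 1536)]
  rels := [[7680, 7680, 7680], [19, 7680, 19, 7680], [7680, 5, 7680, 5, 7680, 5], [7680, 1548, 7680, 1548, 7680, 1548, 7680, 1548, 241]]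
  facts := [f0]

/-- justifications -/
def w0 : List Why :=
  [.one,
    .one,
    .one,
    .one,
    .node,
    .eq false none 96 0 [.R 4 96 16] [.F 0 0, .R 4 0 0],
    .eq false none 9 0 [.R 4 9 2] [.F 1 22, .F 2 21, .F 2 0, .R 4 0 0],
    .eq false none 193 0 [.R 4 193 33] [.F 2 215, .F 3 1538, .F 1 1536, .F 3 0, .R 4 0 0],
    .eq true (some (0, 2)) 0 0 [.R 4 0 0] [.C 19, .F 2 3, .F 1 1, .R 4 1 1, .C 19],
    .node,
    .eq false none 1537 1 [.R 9 1 1] [.F 6 1536, .R 9 0 0],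
    .eq false none 2318 1 [.R 9 1008 168] [.F 5 2606, .F 5 2510, .F 7 1536, .R 9 0 0],
    .eq false none 2160 1 [.R 9 1166 195] [.F 5 2400, .F 7 2606, .F 5 2510, .F 7 1536, .R 9 0 0],
    .eq true (some (3, 5)) 12 1 [.C 241, .C 1548, .R 9 1017 170, .C 1548] [.C 19, .R 8 14 3, .C 19, .C 1728, .C 19, .R 9 249 42, .C 19, .C 1728],
    .eq false (some (3, 8)) 3072 1 [.C 241, .C 1548, .F 5 3931, .F 6 3929, .F 5 4433, .F 7 4482, .R 9 518 87, .C 1548, .F 12 1932, .R 13 633 106, .C 1548, .F 12 3321, .R 13 361 61, .C 1548] [.C 19, .F 7 3468, .R 9 505 85, .C 19],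
    .eq false none 697 2 [.F 14 180] [.F 10 705, .F 11 561, .F 12 0]]

theorem ok0 : checkFrom P 0 w0 = true := by decide +kernel

variable {G : Type*} [Group G] {e : ℕ → G} {r : G}

theorem holds (hR : Rules e r) (hrels : ∀ w, w < P.rels.length → readW e r (P.rels.getD w []).reverse = 1) :
    ∀ m, m < 16 → (P.fact m).Holds P e r := by
  have h : ∀ m, m < 0 → (P.fact m).Holds P e r := fun m hm => absurd hm (Nat.not_lt_zero m)
  have h := checkFrom_sound P hR hrels w0 0 ok0 h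
  exact fun m hm => h m hm

end Cfsg.Agent.HSUniq.Bad
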