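import Cfsg.Agent.Lib.HSUniq.Check

/-!
A certificate for one value of the relation from the third local subgroup.
-/

set_option autoImplicit false
set_option maxRecDepth 20000
set_option Elab.async false

namespace Cfsg.Agent.HSUniq.Main

/-- facts -/
def f0 : List Fact :=
  [⟨false, 96, 0, 0, 0, 96⟩,
    ⟨false, 2, 0, 0, 0, 2⟩,
    ⟨false, 21, 0, 0, 0, 21⟩,
    ⟨false, 1536, 0, 0, 0, 1536⟩,
    ⟨true, 0, 0, 0, 1, 0⟩,
    ⟨false, 1296, 1, 0, 1, 96⟩,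
    ⟨false, 1, 1, 0, 1, 9⟩,
    ⟨false, 974, 1, 0, 1, 193⟩,
    ⟨true, 12, 1, 0, 2, 0⟩,
    ⟨false, 9, 2, 19, 0, 0⟩,
    ⟨true, 0, 1, 12, 1, 18⟩,
    ⟨true, 3, 1, 5, 1, 13⟩,
    ⟨true, 1536, 1, 0, 3, 0⟩,
    ⟨false, 14, 3, 0, 3, 9⟩,
    ⟨false, 1008, 3, 0, 3, 240⟩,
    ⟨false, 1009, 3, 0, 3, 777⟩,
    ⟨false, 240, 3, 0, 3, 241⟩,
    ⟨false, 561, 3, 0, 3, 360⟩,
    ⟨true, 1584, 3, 0, 4, 0⟩,
    ⟨false, 48, 4, 1740, 1, 1536⟩,
    ⟨true, 1548, 3, 2513, 3, 18⟩,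
    ⟨true, 0, 3, 786, 3, 193⟩,
    ⟨false, 2369, 3, 60, 3, 1550⟩,
    ⟨true, 786, 3, 2510, 1, 240⟩,
    ⟨true, 1538, 1, 0, 5, 0⟩,
    ⟨false, 57, 5, 0, 5, 193⟩,
    ⟨false, 9, 5, 0, 5, 192⟩,
    ⟨false, 1521, 5, 0, 5, 1081⟩,
    ⟨true, 12, 5, 0, 6, 0⟩,
    ⟨false, 9, 6, 1586, 1, 0⟩,
    ⟨true, 3, 5, 771, 3, 9⟩,
    ⟨true, 2, 3, 0, 7, 0⟩]

/-- facts -/
def f1 : List Fact :=
  [⟨true, 1560, 3, 0, 8, 0⟩,
    ⟨false, 9, 8, 0, 8, 241⟩,
    ⟨false, 1017, 8, 0, 8, 240⟩,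
    ⟨false, 566, 8, 0, 8, 369⟩,
    ⟨true, 12, 8, 0, 9, 0⟩,
    ⟨false, 9, 9, 1608, 3, 0⟩,
    ⟨false, 260, 7, 252, 5, 193⟩,
    ⟨true, 0, 5, 67, 5, 817⟩,
    ⟨true, 1013, 5, 260, 5, 1017⟩,
    ⟨true, 1553, 5, 2322, 5, 22⟩,
    ⟨true, 1602, 8, 2585, 5, 1497⟩,
    ⟨true, 0, 8, 785, 8, 360⟩,
    ⟨true, 1059, 8, 790, 8, 2558⟩,
    ⟨true, 1554, 8, 2508, 8, 169⟩,
    ⟨true, 1560, 5, 0, 10, 0⟩,
    ⟨false, 2489, 10, 324, 8, 457⟩,
    ⟨true, 1538, 5, 0, 11, 0⟩,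
    ⟨false, 9, 11, 0, 11, 1⟩,
    ⟨true, 1536, 11, 0, 12, 0⟩,
    ⟨false, 192, 12, 1735, 5, 1793⟩,
    ⟨true, 1842, 8, 1867, 11, 4410⟩,
    ⟨false, 3432, 11, 2054, 11, 2558⟩,
    ⟨true, 835, 11, 1739, 5, 193⟩,
    ⟨true, 1562, 5, 0, 13, 0⟩,
    ⟨false, 9, 13, 0, 13, 1⟩,
    ⟨true, 1668, 13, 0, 14, 0⟩,
    ⟨false, 1, 14, 3044, 5, 4214⟩,
    ⟨true, 1818, 8, 2508, 13, 2673⟩,
    ⟨false, 1598, 13, 3513, 13, 4553⟩,
    ⟨true, 906, 13, 2205, 5, 49⟩,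
    ⟨false, 819, 11, 828, 11, 214⟩,
    ⟨true, 831, 11, 1739, 5, 263⟩]

/-- facts -/
def f2 : List Fact :=
  [⟨true, 1419, 13, 7198, 8, 1441⟩,
    ⟨true, 1538, 8, 0, 15, 0⟩,
    ⟨true, 1562, 8, 0, 16, 0⟩,
    ⟨true, 12, 16, 0, 17, 0⟩,
    ⟨false, 9, 17, 1610, 8, 0⟩,
    ⟨true, 1022, 11, 2563, 11, 2318⟩,
    ⟨true, 2508, 13, 1674, 11, 1142⟩,
    ⟨true, 696, 13, 2436, 13, 3641⟩,
    ⟨true, 197, 13, 836, 13, 937⟩,
    ⟨false, 836, 15, 257, 13, 1305⟩,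
    ⟨true, 2652, 16, 2345, 11, 614⟩,
    ⟨true, 2155, 13, 2779, 13, 70⟩,
    ⟨true, 1539, 13, 1915, 16, 3924⟩,
    ⟨false, 6642, 16, 786, 16, 4438⟩,
    ⟨true, 1148, 16, 2345, 11, 4821⟩,
    ⟨true, 301, 16, 1867, 16, 7061⟩,
    ⟨true, 0, 16, 258, 16, 1⟩,
    ⟨true, 197, 16, 476, 16, 134⟩,
    ⟨true, 4914, 13, 2140, 13, 6361⟩,
    ⟨true, 1536, 13, 0, 18, 0⟩,
    ⟨true, 1560, 11, 0, 19, 0⟩,
    ⟨true, 2, 16, 0, 20, 0⟩,
    ⟨true, 1567, 13, 0, 21, 0⟩,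
    ⟨false, 374, 21, 0, 21, 4555⟩,
    ⟨true, 1536, 21, 0, 22, 0⟩,
    ⟨false, 961, 22, 2386, 13, 1473⟩,
    ⟨false, 1601, 18, 738, 8, 2304⟩,
    ⟨false, 2628, 19, 498, 16, 153⟩,
    ⟨false, 2316, 20, 1011, 13, 2305⟩,
    ⟨false, 2779, 21, 593, 21, 4989⟩,
    ⟨true, 1497, 21, 2840, 13, 5730⟩,
    ⟨true, 1656, 11, 0, 23, 0⟩]

/-- facts -/
def f3 : List Fact :=
  [⟨true, 1658, 11, 0, 24, 0⟩,
    ⟨true, 1561, 13, 0, 25, 0⟩,
    ⟨true, 12, 25, 0, 26, 0⟩,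
    ⟨false, 9, 26, 1609, 13, 0⟩,
    ⟨false, 939, 25, 89, 25, 5347⟩,
    ⟨true, 794, 25, 1680, 13, 5347⟩,
    ⟨false, 2681, 25, 1529, 25, 20⟩,
    ⟨false, 1938, 25, 5451, 13, 3627⟩,
    ⟨false, 1788, 24, 619, 8, 2629⟩,
    ⟨false, 2484, 23, 972, 13, 1142⟩]

/-- the certificate -/
def P : Cert where
  nodes := [(0, 0), (1, 12), (1, 1536), (3, 1584), (1, 1538), (5, 12), (3, 2), (3, 1560), (8, 12), (5, 1560), (5, 1538), (11, 1536), (5, 1562), (13, 1668), (8, 1538), (8, 1562), (16, 12), (13, 1536), (11, 1560), (16, 2), (13, 1567), (21, 1536), (11, 1656), (11, 1658), (13, 1561), (25, 12)]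
  rels := [[7680, 7680, 7680], [19, 7680, 19, 7680], [7680, 5, 7680, 5, 7680, 5], [7680, 1548, 7680, 1548, 7680, 1548, 7680, 1548]]
  facts := [f0, f1, f2, f3]

/-- justifications -/
def w0 : List Why :=
  [.one,
    .one,
    .one,
    .one,
    .node,
    .eq false none 96 0 [.R 4 96 16] [.F 0 0, .R 4 0 0],
    .eq false none 9 0 [.R 4 9 2] [.F 1 22, .F 2 21, .F 2 0, .R 4 0 0],
    .eq false none 193 0 [.R 4 193 33] [.F 2 215, .F 3 1538, .F 1 1536, .F 3 0, .R 4 0 0],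
    .node,
    .eq false (some (1, 3)) 0 0 [.R 4 0 0, .C 19, .R 8 14 3] [.C 19],
    .eq true (some (0, 2)) 0 0 [.R 4 0 0] [.C 19, .F 2 3, .F 1 1, .R 4 1 1, .C 19],
    .eq true (some (2, 4)) 0 0 [.C 5, .F 1 21, .F 2 0, .R 4 0 0, .C 5, .F 6 3] [.C 19, .F 2 3, .F 1 1, .R 4 1 1, .C 19, .C 6],
    .node,
    .eq false none 1537 1 [.R 12 1 1] [.F 6 1536, .R 12 0 0],
    .eq false none 2304 1 [.R 12 768 128] [.F 7 2510, .F 7 1536, .R 12 0 0],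
    .eq false none 2545 1 [.R 12 777 130] [.F 7 2505, .F 6 2510, .F 7 1536, .R 12 0 0],
    .eq false none 2318 1 [.R 12 1008 168] [.F 5 2606, .F 5 2510, .F 7 1536, .R 12 0 0],
    .eq false none 2160 1 [.R 12 1166 195] [.F 5 2400, .F 7 2606, .F 5 2510, .F 7 1536, .R 12 0 0],
    .node,
    .eq false (some (3, 6)) 0 0 [.C 1548, .F 3 192, .R 4 192 32, .C 1548, .F 7 2323, .R 12 816 136, .C 1548, .R 18 960 160] [.C 19, .F 2 3, .F 1 1, .R 4 1 1, .C 19, .C 1728],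
    .eq true (some (3, 4)) 12 1 [.C 1548, .R 12 0 0, .C 1548] [.C 19, .R 10 14 3, .C 19, .C 1728, .C 19, .R 12 249 42, .C 19, .C 1728],
    .eq true (some (0, 2)) 1536 1 [.R 12 0 0] [.C 19, .F 7 1790, .R 12 254 43, .C 19],
    .eq false (some (3, 8)) 60 3 [.C 1548, .R 18 768 128, .F 19 960, .C 1548, .R 10 768 128, .C 1548, .R 12 14 3, .C 1548, .R 20 1 1] [],
    .eq true none 1584 3 [.F 22 201] [.R 18 0 0, .F 19 48],
    .node,
    .eq false none 1799 1 [.R 24 974 163] [.F 7 1538, .R 24 0 0],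
    .eq false none 1778 1 [.R 24 14 3] [.F 5 2666, .F 5 1538, .R 24 0 0],
    .eq false none 2951 1 [.R 24 1358 227] [.F 6 2949, .F 5 1629, .F 7 1564, .F 5 1540, .F 6 1538, .R 24 0 0],
    .node,
    .eq false (some (1, 3)) 1538 1 [.R 24 0 0, .C 19, .R 28 14 3] [.C 19],
    .eq true (some (2, 4)) 1536 1 [.C 5, .F 7 1781, .F 6 1779, .R 24 9 2, .C 5] [.C 19, .F 7 1790, .R 12 254 43, .C 19, .C 6],
    .node,
    .node,
    .eq false none 1800 3 [.R 32 14 3] [.F 16 1560, .R 32 0 0],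
    .eq false none 2568 3 [.R 32 782 131] [.F 14 1560, .R 32 0 0],
    .eq false none 2017 3 [.R 32 1153 193] [.F 13 2025, .F 17 1560, .R 32 0 0],
    .node,
    .eq false (some (1, 3)) 1560 3 [.R 32 0 0, .C 19, .R 36 14 3] [.C 19],
    .eq false (some (2, 3)) 0 3 [.C 5, .F 15 819, .R 31 817 137, .C 5] [.C 19, .R 23 769 129, .C 19, .C 6, .C 19, .F 7 2309, .F 6 2307, .R 24 769 129, .C 19],
    .eq true (some (0, 2)) 1538 1 [.R 24 0 0] [.C 19, .F 6 1588, .F 7 2325, .F 6 2327, .R 24 960 160, .C 19],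
    .eq true (some (2, 4)) 1538 1 [.C 5, .F 7 2325, .F 6 2327, .R 24 960 160, .C 5] [.C 19, .F 6 1588, .F 7 2325, .F 6 2327, .R 24 960 160, .C 19, .C 6],
    .eq true (some (3, 4)) 2 1 [.C 1548, .R 24 192 32, .C 1548, .F 25 1553] [.C 19, .F 7 250, .R 11 249 42, .C 19, .C 1728, .C 19, .F 6 2557, .R 24 62 11, .C 19, .C 1728],
    .eq true (some (3, 6)) 4608 1 [.C 1548, .F 5 5584, .F 7 5382, .R 12 96 16, .C 1548, .F 15 2034, .F 17 2923, .R 32 1214 203, .C 1548, .F 35 1602] [.C 19, .F 7 5052, .F 6 5058, .R 24 1449 242, .C 19, .C 1728],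
    .eq true (some (0, 2)) 1560 3 [.R 32 0 0] [.C 19, .F 17 2985, .R 32 249 42, .C 19],
    .eq true (some (2, 4)) 1560 3 [.C 5, .F 22 4587, .F 17 3606, .F 22 5944, .R 32 542 91, .C 5, .F 35 1059] [.C 19, .F 17 2985, .R 32 249 42, .C 19, .C 6],
    .eq true (some (3, 4)) 36 3 [.C 1548, .R 32 398 67, .C 1548, .F 35 1554] [.C 19, .R 21 86 15, .C 19, .C 1728, .C 19, .F 15 2841, .R 32 241 41, .C 19, .C 1728],
    .node,
    .eq false (some (3, 5)) 4611 1 [.C 1548, .F 6 5347, .F 5 5059, .F 6 5057, .R 24 729 122, .C 1548, .F 26 2155, .R 46 446 75, .C 1548] [.C 19, .F 7 5763, .R 12 673 113, .C 19, .C 1728, .C 19, .F 17 1889, .R 32 433 73, .C 19]]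

theorem ok0 : checkFrom P 0 w0 = true := by decide +kernel

/-- justifications -/
def w1 : List Why :=
  [.node,
    .eq false none 1778 5 [.R 48 14 3] [.F 25 1557, .F 26 1538, .R 48 0 0],
    .node,
    .eq false (some (3, 6)) 2 3 [.C 1548, .F 22 1015, .F 15 194, .R 31 192 32, .F 38 1028, .C 1548, .F 25 1539, .R 48 1 1, .C 1548, .R 50 48 8] [.C 19, .F 13 10, .R 31 14 3, .F 38 967, .C 19, .C 1728],
    .eq true (some (3, 4)) 26 3 [.C 1548, .F 22 6175, .F 15 6986, .R 32 422 71, .C 1548, .F 35 1842] [.C 19, .F 13 82, .R 31 86 15, .F 38 871, .C 19, .C 1728, .C 19, .F 25 3034, .F 26 3031, .F 27 2698, .R 48 624 104, .C 19, .C 1728],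
    .eq false none 3025 8 [.R 52 1358 227] [.F 34 2030, .F 35 1560, .R 52 49 9],
    .eq true none 1536 11 [.F 53 3905] [.R 50 0 0, .F 51 192],
    .node,
    .eq false none 1802 5 [.R 55 14 3] [.F 25 1581, .F 26 1562, .R 55 0 0],
    .node,
    .eq false (some (3, 6)) 27 3 [.C 1548, .F 16 2144, .F 17 2176, .F 22 387, .R 31 1353 226, .F 38 1341, .C 1548, .F 27 1618, .R 55 638 107, .C 1548, .R 57 9 2] [.C 19, .F 13 75, .R 31 73 13, .F 38 1110, .C 19, .C 1728],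
    .eq true (some (3, 4)) 31 3 [.C 1548, .F 16 2003, .F 22 7189, .R 32 1046 175, .C 1548, .F 35 1818] [.C 19, .F 15 1034, .R 31 1032 172, .F 38 308, .C 19, .C 1728, .C 19, .F 25 2847, .R 55 241 41, .C 19, .C 1728],
    .eq false none 2016 8 [.R 59 817 137] [.F 34 3033, .F 35 1561, .R 59 576 96],
    .eq true none 1668 13 [.F 60 3576] [.R 57 0 0, .F 58 1],
    .eq false (some (2, 3)) 1536 5 [.C 5, .F 25 2547, .R 48 777 130, .C 5] [.C 19, .F 25 2553, .R 41 206 35, .C 19, .C 6, .C 19, .F 26 2326, .R 48 817 137, .C 19],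
    .eq true none 835 11 [.F 62 964, .F 62 1011] [.R 54 0 0],
    .eq true (some (2, 4)) 1560 5 [.C 5, .F 27 2259, .R 55 1161 194, .C 5] [.C 19, .F 25 2577, .F 26 2568, .R 46 782 131, .F 47 3522, .C 19, .C 6],
    .node,
    .node,
    .node,
    .eq false (some (1, 3)) 1562 8 [.R 66 0 0, .C 19, .R 67 14 3] [.C 19],
    .eq true (some (3, 4)) 2 5 [.C 1548, .R 48 192 32, .C 1548, .F 53 3474] [.C 19, .F 27 923, .R 40 297 50, .C 19, .C 1728, .C 19, .F 25 1693, .F 26 1691, .F 27 2317, .R 48 816 136, .C 19, .C 1728],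
    .eq true (some (3, 4)) 26 5 [.C 1548, .R 55 192 32, .C 1548] [.C 19, .F 27 899, .R 40 369 62, .C 19, .C 1728, .C 19, .F 26 2173, .R 48 446 75, .C 19, .C 1728],
    .eq true (some (3, 4)) 31 5 [.C 1548, .F 25 2149, .R 55 446 75, .C 1548, .F 60 4602] [.C 19, .R 40 985 165, .C 19, .C 1728, .C 19, .F 26 2984, .R 55 577 97, .C 19, .C 1728],
    .eq true (some (2, 4)) 1562 5 [.C 5, .F 25 2687, .F 26 2668, .F 27 2975, .R 55 192 32, .C 5] [.C 19, .F 26 1629, .F 25 2330, .R 55 768 128, .C 19, .C 6],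
    .eq false (some (2, 5)) 1635 5 [.C 5, .R 46 1393 233, .F 47 2369, .C 5, .F 35 2307, .R 65 769 129, .C 5] [.C 19, .F 26 1700, .F 25 2643, .R 55 777 130, .C 19],
    .eq true (some (3, 6)) 4608 5 [.C 1548, .F 25 5912, .R 46 865 145, .F 47 6981, .C 1548, .F 34 7027, .F 35 6228, .R 66 984 164, .C 1548] [.C 19, .F 25 5826, .R 48 681 114, .C 19, .C 1728],
    .eq true (some (3, 4)) 4611 5 [.C 1548, .R 55 729 122, .C 1548, .F 56 2155] [.C 19, .F 25 4997, .R 41 1249 209, .C 19, .C 1728, .C 19, .F 26 7380, .R 55 600 100, .C 19, .C 1728],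
    .eq true (some (3, 4)) 2 8 [.C 1548, .R 65 192 32, .F 73 68, .C 1548] [.C 19, .F 35 298, .R 44 1281 214, .C 19, .C 1728, .C 19, .F 35 2005, .R 66 1200 200, .C 19, .C 1728],
    .eq false (some (3, 5)) 4 8 [.C 1548, .F 33 1538, .R 65 0 0, .F 73 1028, .C 1548, .F 60 790, .R 76 662 111, .C 1548] [.C 19, .F 34 202, .R 44 1185 198, .C 19, .C 1728, .C 19, .R 66 254 43, .C 19],
    .eq true none 2652 16 [.F 77 3867, .F 77 5812, .F 77 7327, .F 77 368] [.R 74 0 0],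
    .eq true (some (3, 4)) 26 8 [.C 1548, .R 66 192 32, .C 1548, .F 77 6711, .F 77 1060] [.C 19, .F 35 370, .R 44 1257 210, .C 19, .C 1728, .C 19, .F 33 1567, .F 34 1762, .R 66 624 104, .C 19, .C 1728],
    .eq true (some (0, 2)) 1562 8 [.R 66 0 0] [.C 19, .F 33 1629, .F 34 2570, .R 66 782 131, .C 19],
    .eq true (some (2, 4)) 1564 8 [.C 5, .F 33 2637, .F 34 1658, .F 35 2975, .R 66 192 32, .C 5] [.C 19, .F 34 2591, .R 66 576 96, .C 19, .C 6],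
    .eq true (some (3, 4)) 4608 8 [.C 1548, .R 59 1065 178, .C 1548] [.C 19, .F 34 5778, .R 65 673 113, .F 73 798, .C 19, .C 1728, .C 19, .F 60 6807, .R 72 1190 199, .C 19, .C 1728],
    .node,
    .node,
    .node,
    .node,
    .eq false none 4077 13 [.R 86 697 117] [.F 56 4058, .F 60 7276, .R 86 0 0],
    .node,
    .eq false (some (3, 6)) 4612 8 [.C 1548, .F 34 5908, .F 35 4629, .R 65 1104 184, .F 73 548, .C 1548, .F 60 4755, .R 86 1334 223, .C 1548, .F 87 2562, .R 88 201 34] [.C 19, .F 33 6010, .F 34 5815, .R 65 686 115, .F 73 799, .C 19, .C 1728],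
    .eq false (some (3, 7)) 1562 3 [.C 1548, .R 31 216 36, .F 38 1124, .C 1548, .F 26 2403, .R 55 769 129, .C 1548, .R 83 830 139, .C 1548] [.C 19, .F 15 2572, .F 22 6562, .R 32 38 7, .C 19],
    .eq false (some (3, 5)) 4707 5 [.C 1548, .F 26 5244, .F 25 5825, .R 48 1497 250, .C 1548, .F 49 2011, .R 84 1200 200, .C 1548] [.C 19, .R 46 913 153, .F 47 6199, .C 19, .C 1728, .C 19, .F 33 6876, .F 35 7387, .R 66 806 135, .C 19],
    .eq false (some (3, 5)) 31 8 [.C 1548, .F 34 2773, .R 66 432 72, .C 1548, .F 77 5055, .F 77 4509, .F 77 1015, .R 85 240 40, .C 1548] [.C 19, .F 34 1055, .F 35 1274, .R 44 529 89, .C 19, .C 1728, .C 19, .F 35 2312, .R 65 961 161, .F 73 966, .C 19],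
    .eq false (some (3, 5)) 4657 8 [.C 1548, .F 35 5888, .R 59 288 48, .C 1548, .R 86 1249 209, .C 1548] [.C 19, .F 33 5964, .F 34 5825, .R 65 1497 250, .F 73 93, .C 19, .C 1728, .C 19, .F 60 7573, .R 86 1089 182, .C 19],
    .eq true none 1536 21 [.F 93 7140, .F 93 4462, .F 93 4779, .F 93 924] [.R 88 0 0, .F 89 817],
    .node]

theorem ok1 : checkFrom P 48 w1 = true := by decide +kernel

/-- justifications -/
def w2 : List Why :=
  [.node,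
    .node,
    .node,
    .eq false (some (1, 3)) 1561 13 [.R 97 0 0, .C 19, .R 98 14 3] [.C 19],
    .eq false (some (2, 3)) 1571 13 [.C 5, .F 56 2627, .F 60 4557, .R 97 417 70, .C 5] [.C 19, .F 60 7331, .R 82 408 68, .C 19, .C 6, .C 19, .F 56 3596, .F 60 1672, .R 97 1305 218, .C 19],
    .eq true none 12 25 [.F 100 1259] [.R 98 0 0, .F 99 9],
    .eq false (some (3, 3)) 42 13 [.C 1548, .R 97 398 67, .C 1548] [.C 19, .R 71 1305 218, .C 19, .C 1728, .C 19, .F 56 6302, .F 60 5417, .R 75 441 74, .C 19, .C 1728, .C 19, .R 97 513 86, .C 19],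
    .eq false (some (3, 7)) 114 13 [.C 1548, .F 56 1838, .R 97 1401 234, .C 1548, .F 100 2645, .F 102 448, .R 101 505 85, .C 1548, .F 56 4266, .R 97 897 150, .C 1548] [.C 19, .R 71 33 6, .C 19],
    .eq false (some (3, 7)) 1567 3 [.C 1548, .F 17 130, .R 31 134 23, .F 38 439, .C 1548, .F 26 2162, .R 48 1166 195, .C 1548, .F 62 2680, .F 62 1714, .R 96 768 128, .C 1548] [.C 19, .F 22 7381, .R 32 1416 236, .C 19],
    .eq false (some (3, 5)) 27 5 [.C 1548, .F 27 1936, .F 26 1928, .R 48 1345 225, .C 1548, .R 95 432 72, .C 1548] [.C 19, .F 27 389, .R 40 1392 232, .C 19, .C 1728, .C 19, .F 27 2278, .R 55 49 9, .C 19]]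

theorem ok2 : checkFrom P 96 w2 = true := by decide +kernel

variable {G : Type*} [Group G] {e : ℕ → G} {r : G}

theorem holds (hR : Rules e r) (hrels : ∀ w, w < P.rels.length → readW e r (P.rels.getD w []).reverse = 1) :
    ∀ m, m < 106 → (P.fact m).Holds P e r := by
  have h : ∀ m, m < 0 → (P.fact m).Holds P e r := fun m hm => absurd hm (Nat.not_lt_zero m)
  have h := checkFrom_sound P hR hrels w0 0 ok0 h
  have h := checkFrom_sound P hR hrels w1 48 ok1 h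
  have h := checkFrom_sound P hR hrels w2 96 ok2 h
  exact fun m hm => h m hm

end Cfsg.Agent.HSUniq.Main
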